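import Cfsg.Agent.Suzuki.Fi23Out.Defs

/-!
Finite checks over all points
-/

set_option autoImplicit false
set_option maxRecDepth 100000

namespace Cfsg.Agent.Suzuki.Fi23Out

theorem cover_0 : allFrom coverOK 0 3168 = true := by decide +kernel

theorem cover_1 : allFrom coverOK 3168 3168 = true := by decide +kernel

theorem cover_2 : allFrom coverOK 6336 3168 = true := by decide +kernel

theorem cover_3 : allFrom coverOK 9504 3168 = true := by decide +kernel

theorem cover_4 : allFrom coverOK 12672 3168 = true := by decide +kernel

theorem cover_5 : allFrom coverOK 15840 3168 = true := by decide +kernel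

theorem cover_6 : allFrom coverOK 19008 3168 = true := by decide +kernel

theorem cover_7 : allFrom coverOK 22176 3168 = true := by decide +kernel

theorem cover_8 : allFrom coverOK 25344 3168 = true := by decide +kernel

theorem cover_9 : allFrom coverOK 28512 3168 = true := by decide +kernel

theorem cover_all : ∀ i : Fin 10, allFrom coverOK (i * 3168) 3168 = true := by
  intro i
  fin_cases i
  exacts [cover_0,cover_1,cover_2,cover_3,cover_4,cover_5,cover_6,cover_7,cover_8,cover_9]

end Cfsg.Agent.Suzuki.Fi23Out
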