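import Cfsg.Agent.Suzuki.Fi23Out.Cent
import Cfsg.Agent.Suzuki.Fi23Out.CheckCover
import Cfsg.Prelude.Def_KGroupFacts

/-!
Every automorphism of the presented Fischer group Fi23 is inner
-/

set_option autoImplicit false
set_option maxRecDepth 20000

namespace Cfsg.Agent.Suzuki.Fi23Out

open Cfsg Cfsg.Agent.Screen.CosetEnum

local notation "G" => Cfsg.Spor.Fi23
local notation "σ" => PresFi23.gens
local notation "T" => Fi23Fi22.tbl
local notation "N" => Tab.n Fi23Fi22.tbl

/-- The frame points. -/
noncomputable def fr (k : Fin 10) : Fin N := genP ⟨fG k, frame_ok k⟩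

theorem fr_val (k : Fin 10) : ((fr k : Fin N) : ℕ) = fP k := mkP_val (gp_ok ⟨fG k, frame_ok k⟩).2.1

theorem dT_fr (k : Fin 10) : dT (fr k) = σ (fG k) := dT_genP _

/-- The stabiliser of the first `k` frame points. -/
noncomputable def stab (k : ℕ) : Subgroup G where
  carrier := {g | ∀ i : Fin 10, (i : ℕ) < k → act g (fr i) = fr i}
  one_mem' := fun i _ => by simp
  mul_mem' := fun {a b} ha hb i hi => by rw [map_mul, Equiv.Perm.mul_apply, hb i hi, ha i hi]
  inv_mem' := fun {a} ha i hi => by rw [map_inv, Equiv.Perm.inv_eq_iff_eq, ha i hi]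

theorem adjF_eq (i : Fin 10) (r : Fin N) : adjF i r = adjB (fr i) r := by
  have h : ((act (dT (fr i)) r : Fin N) : ℕ) = Tab.img T r (fG i) := by
    rw [dT_fr, Fi23Ord.act_gens _ (frame_ok i), Fi23Fi22.checked.perm_apply (frame_ok i)]
  rw [adjF, adjB, ← h, act_dW]

/-- A point has the pattern of stage `k`. -/
def Fits (k : Fin 10) (r : Fin N) : Prop :=
  ∀ i : Fin 10, (i : ℕ) < k → adjB (fr i) r = adjB (fr i) (fr k) ∧ r ≠ fr i

theorem maskGo_low (r : ℕ) : ∀ j, maskGo r j < 2 ^ j := by
  intro j
  induction j with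
  | zero => simp [maskGo]
  | succ j ih =>
    unfold maskGo
    have h2 : 2 ^ (j + 1) = 2 ^ j + 2 ^ j := by ring
    cases adjF j r
    · show Nat.add 0 (maskGo r j) < _
      simp only [Nat.add_eq]; omega
    · show Nat.add (Nat.shiftLeft 1 j) (maskGo r j) < _
      simp only [Nat.add_eq, Nat.shiftLeft_eq']
      rw [Nat.one_shiftLeft]; omega

theorem maskGo_mod (r : ℕ) (k : ℕ) : ∀ j, k ≤ j → maskGo r j % 2 ^ k = maskGo r k := by
  intro j hj
  induction j with
  | zero =>
    obtain rfl : k = 0 := by omega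
    simp [maskGo]
  | succ j ih =>
    rcases Nat.lt_or_ge j k with h | h
    · obtain rfl : k = j + 1 := by omega
      exact Nat.mod_eq_of_lt (maskGo_low r _)
    · conv_lhs => unfold maskGo
      rw [Nat.add_eq, Nat.add_mod, ih h]
      have h0 : (bif adjF j r then Nat.shiftLeft 1 j else 0) % 2 ^ k = 0 := by
        cases adjF j r
        · simp
        · show Nat.shiftLeft 1 j % 2 ^ k = 0
          rw [Nat.shiftLeft_eq', Nat.one_shiftLeft]
          exact Nat.mod_eq_zero_of_dvd (pow_dvd_pow 2 h)
      rw [h0, zero_add, Nat.mod_eq_of_lt (maskGo_low r k)]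

theorem cand_bit {k : Fin 10} {r : Fin N} (h : Fits k r) : bit (candBits.getD k 0) r = true := by
  have hc := allFrom_spec cover_all r
  simp only [coverOK, force_eq] at hc
  have key : ∀ j, maskOK r (maskGo r 10) j = true → ∀ i < j,
      Nat.beq (lowBits (maskGo r 10) i) (lowBits (fMask i) i) = false ∨ inPre r i = true ∨
        bit (candBits.getD i 0) r = true := by
    intro j
    induction j with
    | zero => intro _ i hi; exact absurd hi (Nat.not_lt_zero i)
    | succ j ih =>
      intro hj i hi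
      simp only [maskOK, Bool.and_eq_true, Bool.or_eq_true, Bool.not_eq_true'] at hj
      rcases Nat.lt_or_ge i j with h' | h'
      · exact ih hj.2 i h'
      · obtain rfl : i = j := by omega
        exact or_assoc.1 hj.1
  rcases key 10 hc k k.isLt with h' | h' | h'
  · exfalso
    have hlow : ∀ m k, lowBits m k = m % 2 ^ k := fun m k => by
      show m % (1 <<< k) = _
      rw [Nat.one_shiftLeft]
    have heq : ∀ j ≤ (k : ℕ), maskGo r j = maskGo (fP k) j := by
      intro j
      induction j with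
      | zero => intro _; rfl
      | succ j ih =>
        intro hj
        have hj10 : j < 10 := by have := k.isLt; omega
        have e := (h ⟨j, hj10⟩ (by simp only; omega)).1
        rw [← adjF_eq, ← adjF_eq, fr_val] at e
        unfold maskGo
        rw [ih (by omega), show adjF j (r : ℕ) = adjF j (fP k) from e]
    rw [hlow, hlow, fMask, maskGo_mod _ _ _ (by omega), maskGo_mod _ _ _ (by omega), heq k le_rfl,
      Nat.beq_refl] at h'
    exact Bool.noConfusion h'
  · exfalso
    have hpre : ∀ j ≤ (k : ℕ), inPre r j = false := by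
      intro j
      induction j with
      | zero => intro _; rfl
      | succ j ih =>
        intro hj
        have hj10 : j < 10 := by have := k.isLt; omega
        have e := (h ⟨j, hj10⟩ (by simp only; omega)).2
        unfold inPre
        rw [ih (by omega), show Nat.beq (r : ℕ) (fP j) = false by
          rw [Bool.eq_false_iff]
          exact fun e' => e (Fin.ext ((Nat.eq_of_beq_eq_true e').trans (fr_val ⟨j, hj10⟩).symm))]
        rfl
    rw [hpre k le_rfl] at h'
    exact Bool.noConfusion h'
  · exact h'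

theorem orbit_fits {k : Fin 10} {g : G} (hg : g ∈ stab k) : Fits k (act g (fr k)) := by
  intro i hi
  refine ⟨?_, fun e => ?_⟩
  · conv_lhs => rw [← hg i hi]
    rw [adjB_act]
  · rw [← hg i hi] at e
    have h1 := congrArg Fin.val ((act g).injective e)
    rw [fr_val, fr_val] at h1
    have := frame_inj k i h1
    omega

/-- The candidates of a stage. -/
noncomputable def candSet (k : Fin 10) : Finset ℕ :=
  (Finset.range 31671).filter fun c => bit (candBits.getD k 0) c = true

theorem candSet_card (k : Fin 10) : (candSet k).card = sizes.getD k 0 := by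
  rw [← cand_count k, countAll_eq, candSet, ← countGo_eq]
  rfl

theorem count_le (k : Fin 10) (A : Finset ℕ) (hA : ∀ g ∈ stab k, (act g (fr k) : ℕ) ∈ A) :
    Nat.card (stab k) ≤ A.card * Nat.card (stab ((k : ℕ) + 1)) := by
  classical
  haveI : Finite G := Fi23Ord.finite_fi23
  let rep : ℕ → G := fun c => if h : ∃ g ∈ stab k, (act g (fr k) : ℕ) = c then h.choose else 1
  have hrep : ∀ g : stab k, rep (act (g : G) (fr k) : ℕ) ∈ stab k ∧
      act (rep (act (g : G) (fr k) : ℕ)) (fr k) = act (g : G) (fr k) := by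
    intro g
    have h : ∃ g' ∈ stab k, (act g' (fr k) : ℕ) = (act (g : G) (fr k) : ℕ) := ⟨g, g.2, rfl⟩
    simp only [rep, dif_pos h]
    exact ⟨h.choose_spec.1, Fin.ext h.choose_spec.2⟩
  have hmem : ∀ g : stab k, (rep (act (g : G) (fr k) : ℕ))⁻¹ * (g : G) ∈ stab ((k : ℕ) + 1) := by
    intro g i hi
    rcases Nat.lt_or_ge (i : ℕ) k with h' | h'
    · exact (mul_mem (inv_mem (hrep g).1) g.2 : _ ∈ stab k) i h'
    · rw [show i = k from Fin.ext (by omega), map_mul, Equiv.Perm.mul_apply, map_inv,
        Equiv.Perm.inv_eq_iff_eq, (hrep g).2]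
  have h := Nat.card_le_card_of_injective
    (fun g : stab k => ((⟨_, hA g g.2⟩ : A), (⟨_, hmem g⟩ : stab ((k : ℕ) + 1)))) ?_
  · simpa [Nat.card_prod] using h
  intro a b e
  have e1 : (act (a : G) (fr k) : ℕ) = (act (b : G) (fr k) : ℕ) := congrArg (fun z => (z.1 : ℕ)) e
  have e2 := congrArg (fun z => (z.2 : G)) e
  simp only [e1, mul_right_inj] at e2
  exact Subtype.ext e2

theorem stage_le (k : Fin 10) : Nat.card (stab k) ≤ sizes.getD k 0 * Nat.card (stab ((k : ℕ) + 1)) := by
  rw [← candSet_card]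
  refine count_le k _ fun g hg => ?_
  exact Finset.mem_filter.2 ⟨Finset.mem_range.2 (act g (fr k)).isLt, cand_bit (orbit_fits hg)⟩

theorem stab_ten : Nat.card (stab 10) = 1 := by
  rw [Subgroup.card_eq_one, eq_bot_iff]
  intro g hg
  refine Subgroup.mem_bot.2 (eq_one_of_fix fun j => ?_)
  obtain ⟨k, hk⟩ := order_cover j
  have := hg k k.isLt
  rwa [show fr k = genP j by unfold fr; congr 1; exact Fin.ext hk] at this

theorem prod_lt : ∀ k : Fin 10,
    (∏ j ∈ Finset.range 10, if j = (k : ℕ) then sizes.getD j 0 - 1 else sizes.getD j 0) < 4089470473293004800 := by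
  decide +kernel

theorem reach {k : Fin 10} {r : Fin N} (h : Fits k r) : ∃ g ∈ stab k, act g (fr k) = r := by
  classical
  by_contra hne
  have hk := count_le k ((candSet k).erase (r : ℕ)) fun g hg => Finset.mem_erase.2
    ⟨fun e => hne ⟨g, hg, Fin.ext e⟩,
      Finset.mem_filter.2 ⟨Finset.mem_range.2 (act g (fr k)).isLt, cand_bit (orbit_fits hg)⟩⟩
  rw [Finset.card_erase_of_mem
    (show (r : ℕ) ∈ candSet k from Finset.mem_filter.2 ⟨Finset.mem_range.2 r.isLt, cand_bit h⟩), candSet_card] at hk
  have hstep : ∀ j, j < 10 → Nat.card (stab j) ≤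
      (if j = (k : ℕ) then sizes.getD j 0 - 1 else sizes.getD j 0) * Nat.card (stab (j + 1)) := by
    intro j hj
    by_cases e : j = (k : ℕ)
    · subst e; rw [if_pos rfl]; exact hk
    · rw [if_neg e]; exact stage_le ⟨j, hj⟩
  have hpre : ∀ m ≤ 10, Nat.card (stab 0) ≤
      (∏ j ∈ Finset.range m, if j = (k : ℕ) then sizes.getD j 0 - 1 else sizes.getD j 0) * Nat.card (stab m) := by
    intro m
    induction m with
    | zero => intro _; simp
    | succ m ih =>
      intro hm
      rw [Finset.prod_range_succ, mul_assoc]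
      exact (ih (by omega)).trans (Nat.mul_le_mul_left _ (hstep m (by omega)))
  have h := hpre 10 le_rfl
  rw [stab_ten, mul_one, show stab 0 = ⊤ from eq_top_iff.2 fun g _ i hi => absurd hi (Nat.not_lt_zero _),
    Subgroup.card_top, cardG] at h
  exact absurd h (Nat.not_le.2 (prod_lt k))

/-- An automorphism keeps the first `k` generators. -/
def Keeps (φ : MulAut G) (k : ℕ) : Prop := ∀ i : Fin 10, (i : ℕ) < k → φ (dT (fr i)) = dT (fr i)

theorem advance {φ : MulAut G} {k : Fin 10} (h : Keeps φ k) :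
    ∃ g, Keeps (MulAut.conj g * φ) ((k : ℕ) + 1) := by
  obtain ⟨r, hr⟩ := image_point φ (fr k)
  have hfit : Fits k r := by
    intro i hi
    refine ⟨adj_image φ (h i hi) hr, fun e => ?_⟩
    rw [e, ← h i hi] at hr
    have h1 := congrArg Fin.val (dT_inj (φ.injective hr))
    rw [fr_val, fr_val] at h1
    have := frame_inj k i h1
    omega
  obtain ⟨g, hg, he⟩ := reach hfit
  refine ⟨g⁻¹, fun i hi => ?_⟩
  rcases Nat.lt_or_ge (i : ℕ) k with h' | h'
  · rw [MulAut.mul_apply, h i h', MulAut.conj_apply, conj_dT, (inv_mem hg : g⁻¹ ∈ stab k) i h']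
  · rw [show i = k from Fin.ext (by omega), MulAut.mul_apply, hr, MulAut.conj_apply, conj_dT, map_inv]
    exact congrArg dT (Equiv.Perm.inv_eq_iff_eq.2 he.symm)

theorem inner (φ : MulAut G) : φ ∈ Inn G := by
  have key : ∀ b ≤ 10, ∃ g, Keeps (MulAut.conj g * φ) b := by
    intro b
    induction b with
    | zero => exact fun _ => ⟨1, fun i hi => absurd hi (Nat.not_lt_zero _)⟩
    | succ b ih =>
      intro hb
      obtain ⟨g, hg⟩ := ih (by omega)
      obtain ⟨g', hg'⟩ := advance (k := ⟨b, by omega⟩) hg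
      exact ⟨g' * g, by rw [map_mul, mul_assoc]; exact hg'⟩
  obtain ⟨g, hg⟩ := key 10 le_rfl
  have h1 : MulAut.conj g * φ = 1 := by
    refine MulEquiv.toMonoidHom_injective (MonoidHom.eq_of_eqOn_dense PresFi23.gens_top ?_)
    rintro _ ⟨n, rfl⟩
    by_cases hn : n < 10
    · obtain ⟨k, hk⟩ := order_cover ⟨n, hn⟩
      show (MulAut.conj g * φ) (σ n) = σ n
      rw [← show fG k = n from hk, ← dT_fr]
      exact hg k k.isLt
    · show (MulAut.conj g * φ) (σ n) = σ n
      rw [PresFi23.gens_out n (Nat.le_of_not_lt hn), map_one]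
  rw [mul_eq_one_iff_inv_eq] at h1
  rw [← h1]
  exact inv_mem (MonoidHom.mem_range.2 ⟨g, rfl⟩)

theorem card_out : Nat.card (Cfsg.Out G) = 1 := by
  show Nat.card (MulAut G ⧸ Inn G) = 1
  rw [show Inn G = ⊤ from eq_top_iff.2 fun φ _ => inner φ]
  exact Subgroup.index_top

end Cfsg.Agent.Suzuki.Fi23Out
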