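import Cfsg.Agent.Suzuki.Fi23Out.Defs

/-!
Small finite checks
-/

set_option autoImplicit false
set_option maxRecDepth 100000

namespace Cfsg.Agent.Suzuki.Fi23Out

open Cfsg.Agent.Screen.CosetEnum

local notation "T" => Fi23Fi22.tbl

/-- Tree paths of the diagram. -/
def gPath : List (List ℕ) :=
  [[], [1, 0], [1, 0, 2, 1], [1, 0, 2, 1, 3, 2], [1, 0, 2, 1, 3, 2, 4, 3], [1, 0, 2, 1, 3, 2, 4, 3, 5, 4],
    [1, 0, 2, 1, 3, 2, 4, 3, 5, 4, 6, 5], [1, 0, 2, 1, 3, 2, 4, 3, 5, 4, 6, 5, 7, 6], [1, 0, 2, 1, 3, 2, 8, 3],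
    [1, 0, 2, 1, 3, 2, 8, 3, 9, 8]]

theorem gp_ok : ∀ j : Fin 10, lt10 (gPath.getD j []) = true ∧ gP j < 31671 ∧
    Tab.app T (gPath.getD j []) rootPt = gP j := by decide +kernel

theorem frame_ok : ∀ k : Fin 10, fG k < 10 := by decide +kernel

theorem order_cover : ∀ j : Fin 10, ∃ k : Fin 10, fG k = j := by decide +kernel

theorem frame_inj : ∀ i j : Fin 10, fP i = fP j → i = j := by decide +kernel

theorem root_ok : rootPt < 31671 ∧ lt10 toRoot = true ∧ Tab.app T toRoot 0 = rootPt := by decide +kernel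

theorem cand_count : ∀ k : Fin 10, countAll (candBits.getD k 0) 31671 124 = sizes.getD k 0 := by decide +kernel

theorem x_ok : lt10 xWord = true ∧ fG 6 = 7 ∧ f3 0 = gP 7 ∧ cyclePt < 31671 ∧
    Tab.app T xWord cyclePt ≠ cyclePt ∧ (∀ i : Fin 3, f3 i < 31671 ∧ Tab.app T xWord (f3 i) = f3 i) ∧
    ∀ j : Fin 10, xIt 13 (gP j) = gP j := by decide +kernel

theorem probe_range : adjProbe.all (fun i => Nat.blt i 16 && Nat.ble 3 i) = true ∧
    probes.all (fun p => Nat.blt p.1 16 && Nat.blt p.2.1 16 && Nat.blt p.2.2 16) = true := by decide +kernel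

/-- The point to which the transposition of one fixed point moves another. -/
def sw (k i : Fin 3) : Fin 3 := k + k - i

theorem swap_ok : ∀ k i : Fin 3, Tab.app T (dW (f3 k)) (f3 i) = f3 (sw k i) := by decide +kernel

theorem cand_length : candList.length = 13 := by decide +kernel

theorem clos_ok : (clos closSteps closStart).any (fun s => (List.range 10).all fun j => bit s (gP j)) = true := by
  decide +kernel

end Cfsg.Agent.Suzuki.Fi23Out
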