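import Cfsg.Agent.Suzuki.Fi23Out.Defs

/-!
Finite checks over all points
-/

set_option autoImplicit false
set_option maxRecDepth 100000

namespace Cfsg.Agent.Suzuki.Fi23Out

theorem step_0 : allFrom stepOK 0 3168 = true := by decide +kernel

theorem step_1 : allFrom stepOK 3168 3168 = true := by decide +kernel

theorem step_2 : allFrom stepOK 6336 3168 = true := by decide +kernel

theorem step_3 : allFrom stepOK 9504 3168 = true := by decide +kernel

theorem step_4 : allFrom stepOK 12672 3168 = true := by decide +kernel

theorem step_5 : allFrom stepOK 15840 3168 = true := by decide +kernel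

theorem step_6 : allFrom stepOK 19008 3168 = true := by decide +kernel

theorem step_7 : allFrom stepOK 22176 3168 = true := by decide +kernel

theorem step_8 : allFrom stepOK 25344 3168 = true := by decide +kernel

theorem step_9 : allFrom stepOK 28512 3168 = true := by decide +kernel

theorem step_all : ∀ i : Fin 10, allFrom stepOK (i * 3168) 3168 = true := by
  intro i
  fin_cases i
  exacts [step_0,step_1,step_2,step_3,step_4,step_5,step_6,step_7,step_8,step_9]

end Cfsg.Agent.Suzuki.Fi23Out
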