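import Cfsg.Agent.Screen.CosetEnum.Fi23Ord.Class
import Cfsg.Agent.Fischer.Fi22Transp
import Cfsg.Agent.Suzuki.Fi23Out.CheckStep
import Cfsg.Agent.Suzuki.Fi23Out.CheckSmall

/-!
The 31671 transpositions of the presented Fischer group Fi23 as points
-/

set_option autoImplicit false
set_option maxRecDepth 20000

namespace Cfsg.Agent.Suzuki.Fi23Out

open Cfsg Cfsg.Agent.Screen.CosetEnum

local notation "G" => Cfsg.Spor.Fi23
local notation "σ" => PresFi23.gens
local notation "T" => Fi23Fi22.tbl
local notation "N" => Tab.n Fi23Fi22.tbl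

theorem simpleG : IsSimpleGroup G := Fi23Ord.isSimple_and_card.1

theorem cardG : Nat.card G = 4089470473293004800 := Fi23Ord.card_eq

/-- The action on the transpositions. -/
noncomputable abbrev act : G →* Equiv.Perm (Fin N) := Fi23Ord.act

theorem lt10_spec {w : List ℕ} (h : lt10 w = true) : ∀ x ∈ w, x < 10 := fun x hx => by
  simpa [Nat.blt_eq] using List.all_eq_true.1 h x hx

theorem act_eval (w : List ℕ) (hw : ∀ x ∈ w, x < 10) (c : Fin N) :
    ((act (evalW σ w) c : Fin N) : ℕ) = Tab.app T w c :=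
  Fi23Ord.act_word w (List.all_eq_true.2 fun x hx => by simpa [Nat.blt_eq] using hw x hx) c

theorem allFrom_one {p : ℕ → Bool} {s : ℕ} : ∀ {k : ℕ}, allFrom p s k = true →
    ∀ c, s ≤ c → c < s + k → c < 31671 → p c = true
  | 0, _, c, h1, h2, _ => by omega
  | k + 1, h, c, h1, h2, h3 => by
    simp only [allFrom, force_eq, Bool.and_eq_true, Bool.or_eq_true] at h
    rcases Nat.lt_or_ge c (s + k) with h' | h'
    · exact allFrom_one h.2 c h1 h' h3
    · obtain rfl : c = s + k := by omega
      rcases h.1 with h'' | h''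
      · rw [show Nat.blt (s + k) 31671 = true by simpa [Nat.blt_eq] using h3] at h''
        simp at h''
      · exact h''

theorem allFrom_spec {p : ℕ → Bool} (h : ∀ i : Fin 10, allFrom p (i * 3168) 3168 = true) (c : Fin N) :
    p c = true := by
  have hc : (c : ℕ) < 31671 := c.isLt
  exact allFrom_one (h ⟨c / 3168, by omega⟩) c (by simp only; omega) (by simp only; omega) hc

/-- The point of a number below 31671. -/
def mkP (q : ℕ) : Fin N := if h : q < N then ⟨q, h⟩ else ⟨0, Fi23Fi22.checked.pos⟩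

theorem mkP_val {q : ℕ} (h : q < 31671) : ((mkP q : Fin N) : ℕ) = q := by
  unfold mkP; rw [dif_pos (show q < N from h)]

theorem mkP_coe (q : Fin N) : mkP (q : ℕ) = q := by
  unfold mkP; rw [dif_pos q.isLt]

/-- The point of the first generator. -/
noncomputable def p0 : Fin N := mkP rootPt

theorem p0_val : ((p0 : Fin N) : ℕ) = rootPt := mkP_val root_ok.1

theorem path_spec : ∀ (f q : ℕ) (acc : List ℕ), q < 31671 → field depTree q < f →
    ∃ w, (∀ x ∈ w, x < 10) ∧ path f q acc = w ++ acc ∧ Tab.app T w rootPt = q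
  | 0, q, _, _, h => absurd h (Nat.not_lt_zero _)
  | f + 1, q, acc, hq, hf => by
    have hs := allFrom_spec step_all ⟨q, hq⟩
    unfold path
    simp only [force_eq]
    simp only [stepOK, force_eq, Bool.or_eq_true, Bool.and_eq_true, Nat.blt_eq] at hs
    cases hb : Nat.beq q rootPt with
    | true => exact ⟨[], by simp, by simp, by simp [Tab.app, Nat.eq_of_beq_eq_true hb]⟩
    | false =>
      rcases hs with hs | ⟨⟨⟨⟨h10, hp⟩, himg⟩, hd⟩, -⟩
      · rw [hb] at hs; exact Bool.noConfusion hs
      · simp only [cond_false]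
        obtain ⟨w, hw, hpath, happ⟩ := path_spec f _ ((field parTree q % 16) :: acc) hp (by omega)
        refine ⟨w ++ [field parTree q % 16], ?_, ?_, ?_⟩
        · intro x hx
          rcases List.mem_append.1 hx with hx | hx
          · exact hw x hx
          · rw [List.mem_singleton.1 hx]; exact h10
        · rw [hpath]; simp
        · have : ∀ (v u : List ℕ) (c : ℕ), Tab.app T (v ++ u) c = Tab.app T u (Tab.app T v c) := by
            intro v u
            induction v with
            | nil => intro c; rfl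
            | cons a v ih => intro c; simp only [List.cons_append, Tab.app, force_eq, ih]
          rw [this, happ]
          simp only [Tab.app, force_eq]
          exact Nat.eq_of_beq_eq_true himg

theorem rw_spec (q : Fin N) : (∀ x ∈ rw' q, x < 10) ∧ Tab.app T (rw' q) rootPt = q := by
  have hd : field depTree q < 64 := by
    have hs := allFrom_spec step_all q
    simp only [stepOK, force_eq, Bool.or_eq_true, Bool.and_eq_true, Nat.blt_eq] at hs
    rcases hs with hs | hs
    · rw [Nat.eq_of_beq_eq_true hs]; decide +kernel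
    · exact hs.2
  obtain ⟨w, hw, hp, ha⟩ := path_spec 64 q [] q.isLt hd
  rw [rw', hp, List.append_nil]
  exact ⟨hw, ha⟩

theorem root_conj : evalW σ toRoot * Fi23Ord.zel * (evalW σ toRoot)⁻¹ = σ 0 := by
  have h : evalW σ (toRoot.reverse ++ Fi23Ord.zw ++ toRoot ++ [0]) = 1 :=
    Fi23Ord.eq_one (by decide +kernel) (by decide +kernel)
  simp only [evalW_append, evalW_reverse PresFi23.gens_sq, evalW, one_mul, ← mul_assoc] at h
  rw [show evalW σ Fi23Ord.zw = Fi23Ord.zel from rfl, mul_assoc (σ 0 * _), mul_assoc (σ 0), mul_eq_one_iff_inv_eq,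
    inv_eq_of_mul_eq_one_right (PresFi23.gens_sq 0)] at h
  rw [h, mul_assoc]

theorem stab_root (g : G) : act g p0 = p0 ↔ g * σ 0 = σ 0 * g := by
  obtain ⟨e, he0, he⟩ := Fi23Fi22.checked.exists_equiv σ PresFi23.gens_sq PresFi23.gens_out PresFi23.gens_rels
    PresFi23.gens_top Fi23Ord.stab rfl act Fi23Ord.act_gens
  let z : Fin N := ⟨0, Fi23Fi22.checked.pos⟩
  set k := evalW σ toRoot with hk
  have hkz : act k z = p0 := Fin.ext (by
    rw [act_eval _ (lt10_spec root_ok.2.1), p0_val]; exact root_ok.2.2)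
  have hz : ∀ x : G, act x z = z ↔ x * Fi23Ord.zel = Fi23Ord.zel * x := by
    intro x
    rw [← Subgroup.mem_centralizer_singleton_iff, Fi23Ord.centralizer_eq]
    constructor
    · intro h
      have h1 : x • e z = e z := by rw [he, h]
      rw [he0, MulAction.Quotient.smul_mk, smul_eq_mul, mul_one, QuotientGroup.eq, mul_one] at h1
      simpa using inv_mem h1
    · intro h
      apply e.injective
      rw [← he, he0, MulAction.Quotient.smul_mk, smul_eq_mul, mul_one, QuotientGroup.eq, mul_one]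
      exact inv_mem h
  rw [← root_conj, ← hk, ← hkz]
  rw [show act g (act k z) = act k z ↔ act (k⁻¹ * g * k) z = z by
    rw [map_mul, map_mul, Equiv.Perm.mul_apply, Equiv.Perm.mul_apply, map_inv, Equiv.Perm.inv_eq_iff_eq], hz]
  constructor
  · intro h
    calc g * (k * Fi23Ord.zel * k⁻¹) = k * (k⁻¹ * g * k * Fi23Ord.zel) * k⁻¹ := by group
      _ = k * (Fi23Ord.zel * (k⁻¹ * g * k)) * k⁻¹ := by rw [h]
      _ = _ := by group
  · intro h
    calc k⁻¹ * g * k * Fi23Ord.zel = k⁻¹ * (g * (k * Fi23Ord.zel * k⁻¹)) * k := by group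
      _ = k⁻¹ * (k * Fi23Ord.zel * k⁻¹ * g) * k := by rw [h]
      _ = _ := by group

/-- An element carrying the root point to a point. -/
noncomputable def toP (q : Fin N) : G := evalW σ (rw' q)

theorem toP_spec (q : Fin N) : act (toP q) p0 = q :=
  Fin.ext (by rw [toP, act_eval _ (rw_spec q).1, p0_val]; exact (rw_spec q).2)

/-- The transposition of a point. -/
noncomputable def dT (q : Fin N) : G := toP q * σ 0 * (toP q)⁻¹

theorem lt10_dW (q : Fin N) : ∀ x ∈ dW q, x < 10 := by
  intro x hx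
  have h := (rw_spec q).1
  simp only [dW, List.mem_append, List.mem_reverse, List.mem_singleton] at hx
  rcases hx with (hx | hx) | hx
  · exact h x hx
  · omega
  · exact h x hx

theorem eval_dW (q : Fin N) : evalW σ (dW q) = dT q := by
  rw [dW, evalW_append, evalW_append, evalW_reverse PresFi23.gens_sq, dT, toP]
  simp [evalW, mul_assoc]

theorem conj_spec (g : G) : g * σ 0 * g⁻¹ = dT (act g p0) := by
  have h : act ((toP (act g p0))⁻¹ * g) p0 = p0 := by
    rw [map_mul, Equiv.Perm.mul_apply, map_inv, Equiv.Perm.inv_eq_iff_eq, toP_spec]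
  have h1 := (stab_root _).1 h
  rw [dT]
  calc g * σ 0 * g⁻¹ = toP (act g p0) * ((toP (act g p0))⁻¹ * g * σ 0) * g⁻¹ := by group
    _ = toP (act g p0) * (σ 0 * ((toP (act g p0))⁻¹ * g)) * g⁻¹ := by rw [h1]
    _ = _ := by group

theorem conj_dT (g : G) (q : Fin N) : g * dT q * g⁻¹ = dT (act g q) := by
  have := conj_spec (g * toP q)
  rw [map_mul, Equiv.Perm.mul_apply, toP_spec] at this
  rw [← this, dT]
  group

theorem dT_inj {q r : Fin N} (h : dT q = dT r) : q = r := by
  have h1 : (toP r)⁻¹ * toP q * σ 0 = σ 0 * ((toP r)⁻¹ * toP q) := by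
    calc (toP r)⁻¹ * toP q * σ 0 = (toP r)⁻¹ * (dT q) * toP q := by rw [dT]; group
      _ = (toP r)⁻¹ * (dT r) * toP q := by rw [h]
      _ = _ := by rw [dT]; group
  have h2 := (stab_root _).2 h1
  rw [map_mul, Equiv.Perm.mul_apply, toP_spec, map_inv, Equiv.Perm.inv_eq_iff_eq, toP_spec] at h2
  exact h2

theorem fix_iff (g : G) (q : Fin N) : g * dT q = dT q * g ↔ act g q = q := by
  rw [← mul_inv_eq_iff_eq_mul, conj_dT]
  exact ⟨dT_inj, fun h => by rw [h]⟩

theorem act_dW (q r : Fin N) : ((act (dT q) r : Fin N) : ℕ) = Tab.app T (dW q) r := by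
  rw [← eval_dW, act_eval _ (lt10_dW q)]

theorem adjB_iff (q r : Fin N) : adjB q r = true ↔ dT q * dT r = dT r * dT q := by
  rw [fix_iff, Fin.ext_iff, act_dW, adjB]
  exact ⟨Nat.eq_of_beq_eq_true, fun h => by rw [h]; exact Nat.beq_refl _⟩

theorem adjB_congr {q r q' r' : Fin N} (h : dT q * dT r = dT r * dT q ↔ dT q' * dT r' = dT r' * dT q') :
    adjB q r = adjB q' r' := by
  rw [Bool.eq_iff_iff, adjB_iff, adjB_iff, h]

theorem adjB_act (g : G) (q r : Fin N) : adjB (act g q) (act g r) = adjB q r := by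
  refine adjB_congr ?_
  rw [← conj_dT, ← conj_dT]
  constructor
  · intro h
    calc dT q * dT r = g⁻¹ * (g * dT q * g⁻¹ * (g * dT r * g⁻¹)) * g := by group
      _ = g⁻¹ * (g * dT r * g⁻¹ * (g * dT q * g⁻¹)) * g := by rw [h]
      _ = dT r * dT q := by group
  · intro h
    calc g * dT q * g⁻¹ * (g * dT r * g⁻¹) = g * (dT q * dT r) * g⁻¹ := by group
      _ = g * (dT r * dT q) * g⁻¹ := by rw [h]
      _ = _ := by group

theorem adj_image (φ : MulAut G) {q r q' r' : Fin N} (hq : φ (dT q) = dT q') (hr : φ (dT r) = dT r') :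
    adjB q' r' = adjB q r := by
  refine adjB_congr ?_
  rw [← hq, ← hr, ← map_mul, ← map_mul, φ.injective.eq_iff]

theorem gPath_conj : ∀ j : Fin 10,
    evalW σ (gPath.getD j []) * σ 0 * (evalW σ (gPath.getD j []))⁻¹ = σ j := by
  have hc : ∀ x y : Spor.Fi23.Gen, Spor.coxLabel Spor.Fi23.edges x y = 3 →
      (σ (PresFi23.idx x) * σ (PresFi23.idx y)) ^ 3 = 1 := by
    intro x y h
    rw [PresFi23.gens_idx, PresFi23.gens_idx, ← h]
    exact PresFi23.gens_cox x y
  have step : ∀ (w : List ℕ) (i j : ℕ), (σ i * σ j) ^ 3 = 1 → evalW σ w * σ 0 * (evalW σ w)⁻¹ = σ i →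
      evalW σ (w ++ [j, i]) * σ 0 * (evalW σ (w ++ [j, i]))⁻¹ = σ j := by
    intro w i j h hw
    rw [evalW_append]
    simp only [evalW, one_mul]
    rw [show σ i * σ j * evalW σ w * σ 0 * (σ i * σ j * evalW σ w)⁻¹ =
      σ i * σ j * (evalW σ w * σ 0 * (evalW σ w)⁻¹) * (σ i * σ j)⁻¹ by group, hw]
    exact Fischer.Fi22Transp.conj_of_cube (PresFi23.gens_sq i) (PresFi23.gens_sq j) h
  have h0 : evalW σ [] * σ 0 * (evalW σ [])⁻¹ = σ 0 := by simp [evalW]
  have h1 := step [] 0 1 (hc .a .b (by decide)) h0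
  have h2 := step _ 1 2 (hc .b .c (by decide)) h1
  have h3 := step _ 2 3 (hc .c .d (by decide)) h2
  have h4 := step _ 3 4 (hc .d .e (by decide)) h3
  have h5 := step _ 4 5 (hc .e .f (by decide)) h4
  have h6 := step _ 5 6 (hc .f .g (by decide)) h5
  have h7 := step _ 6 7 (hc .g .j (by decide)) h6
  have h8 := step _ 3 8 (hc .d .h (by decide)) h3
  have h9 := step _ 8 9 (hc .h .i (by decide)) h8
  intro j
  fin_cases j
  exacts [h0, h1, h2, h3, h4, h5, h6, h7, h8, h9]

/-- The point of a generator. -/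
noncomputable def genP (j : Fin 10) : Fin N := mkP (gP j)

theorem dT_genP (j : Fin 10) : dT (genP j) = σ j := by
  have h := gPath_conj j
  rw [conj_spec] at h
  rw [← h]
  refine congrArg dT (Fin.ext ?_)
  rw [genP, mkP_val (gp_ok j).2.1, act_eval _ (lt10_spec (gp_ok j).1), p0_val]
  exact (gp_ok j).2.2.symm

theorem eq_one_of_fix {g : G} (h : ∀ j : Fin 10, act g (genP j) = genP j) : g = 1 := by
  haveI := simpleG
  have hc : g ∈ Subgroup.center G := by
    rw [Subgroup.mem_center_iff]
    intro y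
    have hy : y ∈ Subgroup.centralizer ({g} : Set G) := by
      refine (PresFi23.gens_top ▸ (Subgroup.closure_le _).2 ?_ : (⊤ : Subgroup G) ≤ _) (Subgroup.mem_top y)
      rintro _ ⟨n, rfl⟩
      rw [SetLike.mem_coe, Subgroup.mem_centralizer_singleton_iff]
      by_cases hn : n < 10
      · rw [show n = ((⟨n, hn⟩ : Fin 10) : ℕ) from rfl, ← dT_genP]
        exact ((fix_iff g _).2 (h _)).symm
      · rw [PresFi23.gens_out n (Nat.le_of_not_lt hn), one_mul, mul_one]
    exact Subgroup.mem_centralizer_singleton_iff.1 hy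
  rcases Subgroup.Normal.eq_bot_or_eq_top (inferInstance : (Subgroup.center G).Normal) with hb | ht
  · rw [hb, Subgroup.mem_bot] at hc
    exact hc
  · exfalso
    have hU : ∀ q : Fin N, q = p0 := by
      intro q
      have : toP q * σ 0 = σ 0 * toP q := Subgroup.mem_center_iff.1 (ht ▸ Subgroup.mem_top (σ 0)) (toP q)
      rw [← toP_spec q]
      exact (stab_root _).2 this
    have h1 := congrArg Fin.val ((hU (mkP 0)).trans (hU (mkP 1)).symm)
    rw [mkP_val (by norm_num), mkP_val (by norm_num)] at h1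
    exact zero_ne_one h1

end Cfsg.Agent.Suzuki.Fi23Out
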