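import Cfsg.Agent.Suzuki.Fi23Out.Defs

/-!
Finite checks over all points
-/

set_option autoImplicit false
set_option maxRecDepth 100000

namespace Cfsg.Agent.Suzuki.Fi23Out

theorem cand_0 : allFrom candOK 0 3168 = true := by decide +kernel

theorem cand_1 : allFrom candOK 3168 3168 = true := by decide +kernel

theorem cand_2 : allFrom candOK 6336 3168 = true := by decide +kernel

theorem cand_3 : allFrom candOK 9504 3168 = true := by decide +kernel

theorem cand_4 : allFrom candOK 12672 3168 = true := by decide +kernel

theorem cand_5 : allFrom candOK 15840 3168 = true := by decide +kernel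

theorem cand_6 : allFrom candOK 19008 3168 = true := by decide +kernel

theorem cand_7 : allFrom candOK 22176 3168 = true := by decide +kernel

theorem cand_8 : allFrom candOK 25344 3168 = true := by decide +kernel

theorem cand_9 : allFrom candOK 28512 3168 = true := by decide +kernel

theorem cand_all : ∀ i : Fin 10, allFrom candOK (i * 3168) 3168 = true := by
  intro i
  fin_cases i
  exacts [cand_0,cand_1,cand_2,cand_3,cand_4,cand_5,cand_6,cand_7,cand_8,cand_9]

end Cfsg.Agent.Suzuki.Fi23Out
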