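import Cfsg.Agent.Suzuki.Fi23Out.Defs

/-!
Finite checks over all points
-/

set_option autoImplicit false
set_option maxRecDepth 100000

namespace Cfsg.Agent.Suzuki.Fi23Out

theorem xfix_0 : allFrom xFixOK 0 3168 = true := by decide +kernel

theorem xfix_1 : allFrom xFixOK 3168 3168 = true := by decide +kernel

theorem xfix_2 : allFrom xFixOK 6336 3168 = true := by decide +kernel

theorem xfix_3 : allFrom xFixOK 9504 3168 = true := by decide +kernel

theorem xfix_4 : allFrom xFixOK 12672 3168 = true := by decide +kernel

theorem xfix_5 : allFrom xFixOK 15840 3168 = true := by decide +kernel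

theorem xfix_6 : allFrom xFixOK 19008 3168 = true := by decide +kernel

theorem xfix_7 : allFrom xFixOK 22176 3168 = true := by decide +kernel

theorem xfix_8 : allFrom xFixOK 25344 3168 = true := by decide +kernel

theorem xfix_9 : allFrom xFixOK 28512 3168 = true := by decide +kernel

theorem xfix_all : ∀ i : Fin 10, allFrom xFixOK (i * 3168) 3168 = true := by
  intro i
  fin_cases i
  exacts [xfix_0,xfix_1,xfix_2,xfix_3,xfix_4,xfix_5,xfix_6,xfix_7,xfix_8,xfix_9]

end Cfsg.Agent.Suzuki.Fi23Out
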