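import Cfsg.Agent.Suzuki.Fi23Out.Basic
import Cfsg.Agent.Suzuki.Fi23Out.CheckFix
import Cfsg.Agent.Suzuki.Fi23Out.CheckCand

/-!
An element of order thirteen, its centraliser, and the invariance of the class of transpositions
-/

set_option autoImplicit false
set_option maxRecDepth 20000

namespace Cfsg.Agent.Suzuki.Fi23Out

open Cfsg Cfsg.Agent.Screen.CosetEnum

local notation "G" => Cfsg.Spor.Fi23
local notation "σ" => PresFi23.gens
local notation "T" => Fi23Fi22.tbl
local notation "N" => Tab.n Fi23Fi22.tbl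

/-- The element of order thirteen. -/
noncomputable def el : G := evalW σ xWord

theorem act_el (q : Fin N) : ((act el q : Fin N) : ℕ) = Tab.app T xWord q :=
  act_eval _ (lt10_spec x_ok.1) q

theorem act_el_pow (q : Fin N) : ∀ i : ℕ, ((act (el ^ i) q : Fin N) : ℕ) = xIt i q
  | 0 => by simp [xIt]
  | i + 1 => by rw [pow_succ', map_mul, Equiv.Perm.mul_apply, act_el, act_el_pow q i, xIt, force_eq]

theorem el_order : orderOf el = 13 := by
  haveI : Fact (Nat.Prime 13) := ⟨by norm_num⟩
  obtain ⟨-, -, -, hlt, hne, -, h13⟩ := x_ok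
  refine orderOf_eq_prime (eq_one_of_fix fun j => Fin.ext ?_) fun h => hne ?_
  · rw [act_el_pow, genP, mkP_val (gp_ok j).2.1]; exact h13 j
  · have := act_el (mkP cyclePt)
    rw [h, map_one, Equiv.Perm.one_apply, mkP_val hlt] at this
    exact this.symm

/-- The three fixed points. -/
noncomputable def fx (i : Fin 3) : Fin N := mkP (f3 i)

theorem fx_val (i : Fin 3) : ((fx i : Fin N) : ℕ) = f3 i := mkP_val (x_ok.2.2.2.2.2.1 i).1

theorem el_fix (q : Fin N) : act el q = q ↔ ∃ i, q = fx i := by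
  constructor
  · intro h
    have hq := allFrom_spec xfix_all q
    simp only [xFixOK, Bool.or_eq_true, Bool.not_eq_true'] at hq
    rcases hq with ((hq | hq) | hq) | hq
    · exact ⟨0, Fin.ext ((Nat.eq_of_beq_eq_true hq).trans (fx_val 0).symm)⟩
    · exact ⟨1, Fin.ext ((Nat.eq_of_beq_eq_true hq).trans (fx_val 1).symm)⟩
    · exact ⟨2, Fin.ext ((Nat.eq_of_beq_eq_true hq).trans (fx_val 2).symm)⟩
    · rw [← act_el, h, Nat.beq_refl] at hq; exact Bool.noConfusion hq
  · rintro ⟨i, rfl⟩
    refine Fin.ext ?_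
    rw [act_el, fx_val]
    exact (x_ok.2.2.2.2.2.1 i).2

theorem act_act_dT (g : G) (u v : Fin N) : act g (act (dT u) v) = act (dT (act g u)) (act g v) := by
  rw [← Equiv.Perm.mul_apply, ← map_mul, ← Equiv.Perm.mul_apply, ← map_mul, ← conj_dT, inv_mul_cancel_right]

/-- The points of the invariant of a point. -/
noncomputable def ptP (r : Fin N) (i : ℕ) : Fin N :=
  if h : i < 3 then fx ⟨i, h⟩ else act (el ^ (i - 3)) r

theorem ptP_val (r : Fin N) (i : ℕ) : ((ptP r i : Fin N) : ℕ) = pts r i := by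
  unfold ptP pts
  by_cases h : i < 3
  · rw [dif_pos h, fx_val, show Nat.blt i 3 = true by simpa [Nat.blt_eq] using h, cond_true]
  · rw [dif_neg h, act_el_pow, show Nat.blt i 3 = false by
      rw [Bool.eq_false_iff]; simpa [Nat.blt_eq] using h, cond_false]

/-- An element centralises the element of order thirteen and keeps its fixed points. -/
def Keeper (g : G) : Prop := g * el = el * g ∧ ∀ i, act g (fx i) = fx i

theorem keeper_pt {g : G} (hg : Keeper g) (r : Fin N) (i : ℕ) : act g (ptP r i) = ptP (act g r) i := by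
  unfold ptP
  by_cases h : i < 3
  · rw [dif_pos h, dif_pos h, hg.2]
  · rw [dif_neg h, dif_neg h, ← Equiv.Perm.mul_apply, ← map_mul, ← Equiv.Perm.mul_apply, ← map_mul,
      ((show Commute g el from hg.1).pow_right (i - 3)).eq]

/-- The moved point. -/
noncomputable def qP : Fin N := mkP cyclePt

theorem qP_val : ((qP : Fin N) : ℕ) = cyclePt := mkP_val x_ok.2.2.2.1

theorem f3_zero : genP 7 = fx 0 := by
  refine Fin.ext ?_
  rw [genP, fx_val, mkP_val (gp_ok 7).2.1]
  exact x_ok.2.2.1.symm

theorem adjF_six (r : Fin N) : adjF 6 r = adjB (fx 0) r := by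
  have h : ((act (dT (fx 0)) r : Fin N) : ℕ) = Tab.img T r 7 := by
    rw [← f3_zero, dT_genP, show ((7 : Fin 10) : ℕ) = 7 from rfl, Fi23Ord.act_gens _ (show 7 < 10 by norm_num), Fi23Fi22.checked.perm_apply (show 7 < 10 by norm_num)]
  rw [adjF, adjB, x_ok.2.1, ← h, act_dW]

theorem cand_mem {g : G} (hg : Keeper g) : ((act g qP : Fin N) : ℕ) ∈ candList := by
  set r := act g qP with hr
  have hne : ∀ i, (r : ℕ) ≠ f3 i ∨ 3 ≤ i := by
    intro i
    rcases Nat.lt_or_ge i 3 with h | h
    · refine Or.inl fun e => x_ok.2.2.2.2.1 ?_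
      have e' : r = act g (fx ⟨i, h⟩) := by rw [hg.2]; exact Fin.ext (e.trans (fx_val ⟨i, h⟩).symm)
      rw [hr] at e'
      have hq := (el_fix qP).2 ⟨⟨i, h⟩, (act g).injective e'⟩
      have := congrArg Fin.val hq
      rwa [act_el, qP_val] at this
    · exact Or.inr h
  have hcyc : cycOK r = true := by
    have hadj : ∀ i, adjB (r : ℕ) (pts r i) = adjB cyclePt (pts cyclePt i) := by
      intro i
      rw [← ptP_val, ← qP_val, ← ptP_val, hr, ← keeper_pt hg, adjB_act]
    have hfix : ∀ i : Fin 3, adjB (f3 i) (r : ℕ) = adjB (f3 i) cyclePt := by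
      intro i
      rw [← fx_val, ← qP_val, hr]
      conv_lhs => rw [← hg.2 i]
      rw [adjB_act]
    have hprobe : ∀ p, probe r p = probe cyclePt p := by
      intro p
      simp only [probe, force_eq]
      rw [← qP_val]
      simp only [← ptP_val, ← act_dW]
      rw [hr]
      simp only [← keeper_pt hg, ← act_act_dT, adjB_act]
    have h6 : adjF 6 r = adjF 6 cyclePt := by
      rw [adjF_six, ← qP_val, adjF_six, fx_val, qP_val]
      exact hfix 0
    simp [cycOK, h6, hprobe, hadj, show adjB (f3 1) (r : ℕ) = adjB (f3 1) cyclePt from hfix 1,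
      show adjB (f3 2) (r : ℕ) = adjB (f3 2) cyclePt from hfix 2, List.all_eq_true]
  have hc := allFrom_spec cand_all r
  simp only [candOK, hcyc, Bool.not_true, Bool.or_eq_true, List.contains_iff_mem] at hc
  rcases hc with (((h | h) | h) | h) | h
  · exact absurd (Nat.eq_of_beq_eq_true h) ((hne 0).resolve_right (by norm_num))
  · exact absurd (Nat.eq_of_beq_eq_true h) ((hne 1).resolve_right (by norm_num))
  · exact absurd (Nat.eq_of_beq_eq_true h) ((hne 2).resolve_right (by norm_num))
  · exact Bool.noConfusion h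
  · exact h

theorem clos_spec {h : G} : ∀ (l : List ℕ) (s t : ℕ), clos l s = some t →
    (∀ c, bit s c = true → ∃ q : Fin N, (q : ℕ) = c ∧ act h q = q) →
    ∀ c, bit t c = true → ∃ q : Fin N, (q : ℕ) = c ∧ act h q = q := by
  intro l
  induction l with
  | nil =>
    intro s t e hs
    simp only [clos, Option.some.injEq] at e
    exact e ▸ hs
  | cons e l ih =>
    intro s t he hs
    unfold clos at he
    simp only [force_eq] at he
    cases hb : (bit s (e / 32) && bit s (closGens.getD (e % 32) 0) && Nat.blt (e / 32) 31671 &&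
        Nat.blt (closGens.getD (e % 32) 0) 31671) with
    | false => rw [hb, cond_false] at he; simp at he
    | true =>
      simp only [hb, cond_true] at he
      refine ih _ _ he fun c hc => ?_
      rw [bit_addBit, Bool.or_eq_true, decide_eq_true_iff] at hc
      rcases hc with hc | hc
      · exact hs c hc
      · simp only [Bool.and_eq_true] at hb
        obtain ⟨v, hv, hv'⟩ := hs _ hb.1.1.1
        obtain ⟨a, ha, ha'⟩ := hs _ hb.1.1.2
        refine ⟨act (dT a) v, ?_, ?_⟩
        · rw [act_dW, hv, ha, hc]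
        · rw [act_act_dT, hv', ha']

theorem fix_all {h : G} (hh : Keeper h) (h1 : act h qP = qP) : h = 1 := by
  have key : ∀ (l : List ℕ) (s : ℕ), (∀ c, bit s c = true → ∃ q : Fin N, (q : ℕ) = c ∧ act h q = q) →
      ∀ c, bit (l.foldl (fun s i => addBit s (pts cyclePt i)) s) c = true →
        ∃ q : Fin N, (q : ℕ) = c ∧ act h q = q := by
    intro l
    induction l with
    | nil => exact fun s hs => hs
    | cons a l ih =>
      intro s hs
      refine ih _ fun c hc => ?_
      rw [bit_addBit, Bool.or_eq_true, decide_eq_true_iff] at hc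
      rcases hc with hc | hc
      · exact hs c hc
      · refine ⟨ptP qP a, ?_, by rw [keeper_pt hh, h1]⟩
        rw [ptP_val, qP_val, hc]
  refine eq_one_of_fix fun j => ?_
  obtain ⟨t, ht, htall⟩ := (Option.any_eq_true _ _).1 clos_ok
  simp only [List.all_eq_true, List.mem_range] at htall
  obtain ⟨q, hq, hq'⟩ := clos_spec _ _ _ ht (key _ 0 fun c hc => by simp [bit_eq] at hc) _ (htall j j.isLt)
  rwa [show q = genP j from Fin.ext (hq.trans (mkP_val (gp_ok j).2.1).symm)] at hq'

/-- The subgroup of the keepers. -/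
noncomputable def keepers : Subgroup G where
  carrier := {g | Keeper g}
  one_mem' := ⟨by simp, fun i => by simp⟩
  mul_mem' := fun {a b} ha hb =>
    ⟨((show Commute a el from ha.1).mul_left (show Commute b el from hb.1)).eq,
      fun i => by rw [map_mul, Equiv.Perm.mul_apply, hb.2 i, ha.2 i]⟩
  inv_mem' := fun {a} ha =>
    ⟨(show Commute a el from ha.1).inv_left.eq, fun i => by rw [map_inv, Equiv.Perm.inv_eq_iff_eq, ha.2 i]⟩

theorem keepers_eq : keepers = Subgroup.zpowers el := by
  classical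
  haveI : Finite G := Fi23Ord.finite_fi23
  have hel : el ∈ keepers := ⟨rfl, fun i => (el_fix _).2 ⟨i, rfl⟩⟩
  refine (Subgroup.eq_of_le_of_card_ge (Subgroup.zpowers_le.2 hel) ?_).symm
  rw [Nat.card_zpowers, el_order]
  have h := Nat.card_le_card_of_injective
    (fun g : keepers => (⟨_, List.mem_toFinset.2 (cand_mem g.2)⟩ : candList.toFinset)) ?_
  · refine h.trans ?_
    rw [Nat.card_eq_finsetCard]
    exact (List.toFinset_card_le _).trans_eq cand_length
  intro a b e
  have e' : act (a : G) qP = act (b : G) qP := Fin.ext (congrArg Subtype.val e)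
  refine Subtype.ext (inv_mul_eq_one.1 (fix_all (mul_mem (inv_mem a.2) b.2) ?_))
  rw [map_mul, Equiv.Perm.mul_apply, ← e', map_inv, Equiv.Perm.inv_eq_iff_eq]

theorem act_swap (k i : Fin 3) : act (dT (fx k)) (fx i) = fx (sw k i) := by
  refine Fin.ext ?_
  rw [act_dW, fx_val, fx_val, fx_val]
  exact swap_ok k i

theorem dT_sq (q : Fin N) : dT q * dT q = 1 := by
  rw [dT, show toP q * σ 0 * (toP q)⁻¹ * (toP q * σ 0 * (toP q)⁻¹) = toP q * (σ 0 * σ 0) * (toP q)⁻¹ by group,
    PresFi23.gens_sq, mul_one, mul_inv_cancel]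

theorem involution_cent_el {t : G} (ht : t * t = 1) (ht1 : t ≠ 1) (hc : t * el = el * t) :
    ∃ k, t = dT (fx k) := by
  have h13 : el ^ 13 = 1 := el_order ▸ pow_orderOf_eq_one el
  have hodd : ∀ u ∈ Subgroup.zpowers el, u * u = 1 → u = 1 := by
    intro u hu h2
    obtain ⟨i, rfl⟩ := hu
    have e : ((el ^ i) ^ (2 : ℕ)) ^ 7 = el ^ i := by
      rw [← pow_mul, show 2 * 7 = 13 + 1 from rfl, pow_succ, ← zpow_natCast (el ^ i), ← zpow_mul, mul_comm i,
        zpow_mul, zpow_natCast, h13, one_zpow, one_mul]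
    show el ^ i = 1
    rw [← e, pow_two]
    show (el ^ i * el ^ i) ^ 7 = 1
    rw [show el ^ i * el ^ i = 1 from h2, one_pow]
  have hperm : ∀ i, ∃ j, act t (fx i) = fx j := by
    intro i
    refine (el_fix _).1 ?_
    rw [← Equiv.Perm.mul_apply, ← map_mul, ← hc, map_mul, Equiv.Perm.mul_apply, (el_fix _).2 ⟨i, rfl⟩]
  choose e he using hperm
  have hinj : ∀ a b : Fin 3, fx a = fx b → a = b := by
    have hd : ∀ a b : Fin 3, f3 a = f3 b → a = b := by decide +kernel
    intro a b h
    exact hd a b (by rw [← fx_val, ← fx_val, h])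
  have hee : ∀ i, e (e i) = i := by
    intro i
    apply hinj
    rw [← he, ← he, ← Equiv.Perm.mul_apply, ← map_mul, ht, map_one, Equiv.Perm.one_apply]
  have hcomb : ∀ f : Fin 3 → Fin 3, (∀ i, f (f i) = i) →
      ∃ k, f k = k ∧ ((∀ i, f i = i) ∨ ∀ i, f i = sw k i) := by decide +kernel
  obtain ⟨k, hk, hall | hall⟩ := hcomb e hee
  · refine absurd (hodd t ?_ ht) ht1
    rw [← keepers_eq]
    exact ⟨hc, fun i => by rw [he, hall]⟩
  · refine ⟨k, ?_⟩
    have hde : dT (fx k) * el = el * dT (fx k) := ((fix_iff el (fx k)).2 ((el_fix _).2 ⟨k, rfl⟩)).symm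
    have htd : t * dT (fx k) = dT (fx k) * t := (fix_iff t (fx k)).2 (by rw [he, hk])
    have hsw : ∀ a b : Fin 3, sw a (sw a b) = b := by decide +kernel
    have hu : t * dT (fx k) ∈ keepers :=
      ⟨((show Commute t el from hc).mul_left (show Commute (dT (fx k)) el from hde)).eq,
        fun i => by rw [map_mul, Equiv.Perm.mul_apply, act_swap, he, hall, hsw]⟩
    rw [keepers_eq] at hu
    have h1 := hodd _ hu (by
      rw [show t * dT (fx k) * (t * dT (fx k)) = t * (dT (fx k) * t) * dT (fx k) by group, ← htd,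
        show t * (t * dT (fx k)) * dT (fx k) = t * t * (dT (fx k) * dT (fx k)) by group, ht, dT_sq, one_mul])
    calc t = t * dT (fx k) * dT (fx k) := by rw [mul_assoc, dT_sq, mul_one]
      _ = dT (fx k) := by rw [h1, one_mul]

theorem dT_p0 : dT p0 = σ 0 := by
  have := conj_spec 1
  rw [map_one, Equiv.Perm.one_apply] at this
  rw [← this]; group

theorem gen0_ne : σ 0 ≠ 1 := by
  intro h
  have h0 := (stab_root (toP (mkP 0))).2 (by rw [h, mul_one, one_mul])
  have h1 := (stab_root (toP (mkP 1))).2 (by rw [h, mul_one, one_mul])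
  rw [toP_spec] at h0 h1
  have := congrArg Fin.val (h0.trans h1.symm)
  rw [mkP_val (by norm_num), mkP_val (by norm_num)] at this
  exact zero_ne_one this

theorem card_centralizer : Nat.card (Subgroup.centralizer ({σ 0} : Set G)) * 31671 = 4089470473293004800 := by
  classical
  haveI : Finite G := Fi23Ord.finite_fi23
  have hidx : (Subgroup.centralizer ({σ 0} : Set G)).index = 31671 := by
    rw [Subgroup.index]
    refine (Nat.card_congr (Equiv.ofBijective (Quotient.lift (fun g : G => act g p0) ?_) ⟨?_, ?_⟩)).trans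
      (Nat.card_fin _)
    · intro a b hab
      have h1 := (stab_root _).2 (Subgroup.mem_centralizer_singleton_iff.1 (QuotientGroup.leftRel_apply.1 hab))
      rw [map_mul, Equiv.Perm.mul_apply, map_inv, Equiv.Perm.inv_eq_iff_eq] at h1
      exact h1.symm
    · intro q q'
      refine Quotient.inductionOn₂ q q' fun a b (h : act a p0 = act b p0) => Quotient.sound ?_
      refine QuotientGroup.leftRel_apply.2 (Subgroup.mem_centralizer_singleton_iff.2 ((stab_root _).1 ?_))
      rw [map_mul, Equiv.Perm.mul_apply, ← h, map_inv, Equiv.Perm.inv_eq_iff_eq]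
    · exact fun q => ⟨Quotient.mk _ (toP q), toP_spec q⟩
  rw [← hidx, Subgroup.card_mul_index, cardG]

theorem sylow_thirteen {y : G} (hy : orderOf y = 13) :
    ∃ P : Sylow 13 G, (P : Subgroup G) = Subgroup.zpowers y := by
  haveI : Finite G := Fi23Ord.finite_fi23
  haveI : Fact (Nat.Prime 13) := ⟨by norm_num⟩
  have hcard : Nat.card (Subgroup.zpowers y) = 13 ^ 1 := by rw [Nat.card_zpowers, hy, pow_one]
  obtain ⟨P, hP⟩ := (IsPGroup.of_card hcard).exists_le_sylow
  refine ⟨P, (Subgroup.eq_of_le_of_card_ge hP ?_).symm⟩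
  obtain ⟨n, hn⟩ := (P.isPGroup').exists_card_eq
  have hd : 13 ^ n ∣ 4089470473293004800 := by rw [← hn, ← cardG]; exact Subgroup.card_subgroup_dvd_card _
  have hn2 : n ≤ 1 := by
    by_contra h
    have : 13 ^ 2 ∣ 4089470473293004800 := (pow_dvd_pow 13 (by omega : 2 ≤ n)).trans hd
    norm_num at this
  rw [hn, hcard]
  exact Nat.pow_le_pow_right (by norm_num) hn2

theorem gen0_image (φ : MulAut G) : ∃ q : Fin N, φ (σ 0) = dT q := by
  haveI : Finite G := Fi23Ord.finite_fi23
  haveI : Fact (Nat.Prime 13) := ⟨by norm_num⟩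
  have hsub : Subgroup.centralizer ({φ (σ 0)} : Set G) =
      (Subgroup.centralizer ({σ 0} : Set G)).map φ.toMonoidHom := by
    ext y
    obtain ⟨z, rfl⟩ := φ.surjective y
    rw [Subgroup.mem_centralizer_singleton_iff, Subgroup.mem_map_equiv, φ.symm_apply_apply,
      Subgroup.mem_centralizer_singleton_iff, ← map_mul, ← map_mul, φ.injective.eq_iff]
  have hdvd : 13 ∣ Nat.card (Subgroup.centralizer ({φ (σ 0)} : Set G)) := by
    rw [hsub, Subgroup.card_map_of_injective φ.injective]
    have := card_centralizer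
    omega
  obtain ⟨y, hy⟩ := exists_prime_orderOf_dvd_card' 13 hdvd
  have hy' : orderOf (y : G) = 13 := by rw [Subgroup.orderOf_coe, hy]
  obtain ⟨P, hP⟩ := sylow_thirteen hy'
  obtain ⟨Q, hQ⟩ := sylow_thirteen el_order
  obtain ⟨g, hg⟩ := MulAction.exists_smul_eq G P Q
  have hmem : g * (y : G) * g⁻¹ ∈ Subgroup.zpowers el := by
    rw [← hQ, ← hg, Sylow.coe_subgroup_smul, hP]
    exact ⟨_, Subgroup.mem_zpowers _, rfl⟩
  have hgen : el ∈ Subgroup.zpowers (g * (y : G) * g⁻¹) := by
    have : Subgroup.zpowers (g * (y : G) * g⁻¹) = Subgroup.zpowers el := by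
      refine Subgroup.eq_of_le_of_card_ge (Subgroup.zpowers_le.2 hmem) ?_
      rw [Nat.card_zpowers, Nat.card_zpowers, el_order,
        show g * (y : G) * g⁻¹ = MulAut.conj g (y : G) from rfl, MulEquiv.orderOf_eq, hy']
    rw [this]; exact Subgroup.mem_zpowers _
  obtain ⟨i, hi⟩ := hgen
  have hc : Commute (g * φ (σ 0) * g⁻¹) el := by
    rw [← show (g * (y : G) * g⁻¹) ^ i = el from hi]
    refine Commute.zpow_right ?_ i
    have hb : φ (σ 0) * (y : G) = (y : G) * φ (σ 0) := (Subgroup.mem_centralizer_singleton_iff.1 y.2).symm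
    exact ((show Commute (φ (σ 0)) (y : G) from hb).map (MulAut.conj g).toMonoidHom)
  have hsq : φ (σ 0) * φ (σ 0) = 1 := by rw [← map_mul, PresFi23.gens_sq, map_one]
  obtain ⟨k, ht⟩ := involution_cent_el (t := g * φ (σ 0) * g⁻¹)
    (by rw [show g * φ (σ 0) * g⁻¹ * (g * φ (σ 0) * g⁻¹) = g * (φ (σ 0) * φ (σ 0)) * g⁻¹ by group, hsq,
      mul_one, mul_inv_cancel])
    (fun h => gen0_ne (φ.injective (by
      rw [map_one]
      have := congrArg (fun z => g⁻¹ * z * g) h
      simpa [mul_assoc] using this)))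
    hc.eq
  refine ⟨act g⁻¹ (fx k), ?_⟩
  rw [← conj_dT, ← ht]
  group

theorem image_point (φ : MulAut G) (q : Fin N) : ∃ r : Fin N, φ (dT q) = dT r := by
  obtain ⟨r, hr⟩ := gen0_image φ
  exact ⟨act (φ (toP q)) r, by rw [dT, map_mul, map_mul, map_inv, hr, conj_dT]⟩

end Cfsg.Agent.Suzuki.Fi23Out
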