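import Cfsg.Agent.Screen.CosetEnum.Fi23Fi22.Data
import Cfsg.Agent.Suzuki.Fi23Out.Data

/-!
Checking functions on the 31671 transpositions of the presented Fischer group Fi23
-/

set_option autoImplicit false
set_option maxRecDepth 100000

namespace Cfsg.Agent.Suzuki.Fi23Out

open Cfsg.Agent.Screen.CosetEnum

local notation "T" => Fi23Fi22.tbl

/-- The word on the way from the root point, read backwards from a point. -/
noncomputable def path : ℕ → ℕ → List ℕ → List ℕ
  | 0, _, acc => acc
  | f + 1, q, acc => force q fun q => bif Nat.beq q rootPt then acc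
      else force (field parTree q) fun v => path f (v / 16) ((v % 16) :: acc)

/-- A word carrying the root point to a point. -/
noncomputable def rw' (q : ℕ) : List ℕ := path 64 q []

/-- The word of the transposition of a point. -/
noncomputable def dW (q : ℕ) : List ℕ := (rw' q).reverse ++ [0] ++ rw' q

/-- The parent of a point is nearer to the root. -/
noncomputable def stepOK (q : ℕ) : Bool :=
  Nat.beq q rootPt || force (field parTree q) fun v =>
    Nat.blt (v % 16) 10 && Nat.blt (v / 16) 31671 && Nat.beq (Tab.img T (v / 16) (v % 16)) q &&
      Nat.blt (field depTree (v / 16)) (field depTree q) && Nat.blt (field depTree q) 64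

/-- Apply a check to the points `s, …, s + k - 1`. -/
noncomputable def allFrom (p : ℕ → Bool) (s : ℕ) : ℕ → Bool
  | 0 => true
  | k + 1 => force (s + k) (fun c => !(Nat.blt c 31671) || p c) && allFrom p s k

/-- The letters of a word. -/
def lt10 (w : List ℕ) : Bool := w.all fun x => Nat.blt x 10

/-- The point of a generator. -/
noncomputable def gP (j : ℕ) : ℕ := genPts.getD j 0

/-- The generator of stage `k`. -/
noncomputable def fG (k : ℕ) : ℕ := frameGen.getD k 0

/-- The point of stage `k`. -/
noncomputable def fP (k : ℕ) : ℕ := gP (fG k)

/-- Whether the transpositions of the frame point `i` and of the point `r` commute. -/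
noncomputable def adjF (i r : ℕ) : Bool := Nat.beq (Tab.img T r (fG i)) r

/-- Whether two transpositions commute. -/
noncomputable def adjB (q r : ℕ) : Bool := Nat.beq (Tab.app T (dW q) r) r

/-- The generators commuting with the transposition of a point, as bits by stage. -/
noncomputable def maskGo (r : ℕ) : ℕ → ℕ
  | 0 => 0
  | i + 1 => Nat.add (bif adjF i r then Nat.shiftLeft 1 i else 0) (maskGo r i)

/-- A point is one of the first `k` frame points. -/
noncomputable def inPre (r : ℕ) : ℕ → Bool
  | 0 => false
  | i + 1 => Nat.beq r (fP i) || inPre r i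

/-- The low bits of a mask. -/
def lowBits (m k : ℕ) : ℕ := Nat.mod m (Nat.shiftLeft 1 k)

/-- The masks of the frame points. -/
noncomputable def fMask (k : ℕ) : ℕ := maskGo (fP k) 10

/-- A mask fits a stage only at a candidate. -/
noncomputable def maskOK (r m : ℕ) : ℕ → Bool
  | 0 => true
  | k + 1 => (!(Nat.beq (lowBits m k) (lowBits (fMask k) k)) || inPre r k || bit (candBits.getD k 0) r) &&
      maskOK r m k

/-- Every candidate is listed. -/
noncomputable def coverOK (r : ℕ) : Bool := force (maskGo r 10) fun m => maskOK r m 10

/-- The three fixed points. -/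
noncomputable def f3 (i : ℕ) : ℕ := fixPts3.getD i 0

/-- Only the three listed points are fixed by the element of order thirteen. -/
noncomputable def xFixOK (r : ℕ) : Bool :=
  Nat.beq r (f3 0) || Nat.beq r (f3 1) || Nat.beq r (f3 2) || !(Nat.beq (Tab.app T xWord r) r)

/-- Iterates. -/
noncomputable def xIt : ℕ → ℕ → ℕ
  | 0, c => c
  | i + 1, c => force (xIt i c) fun d => Tab.app T xWord d

/-- The fixed points and a cycle. -/
noncomputable def pts (r i : ℕ) : ℕ := bif Nat.blt i 3 then f3 i else xIt (i - 3) r

/-- A probe. -/
noncomputable def probe (r : ℕ) (p : ℕ × ℕ × ℕ) : Bool :=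
  force (Tab.app T (dW (pts r p.1)) (pts r p.2.1)) fun z => adjB z (pts r p.2.2)

/-- The invariants of the cycle of a point. -/
noncomputable def cycOK (r : ℕ) : Bool :=
  (adjF 6 r == adjF 6 cyclePt) && (adjB (f3 1) r == adjB (f3 1) cyclePt) &&
    (adjB (f3 2) r == adjB (f3 2) cyclePt) &&
    (adjProbe.all fun i => adjB r (pts r i) == adjB cyclePt (pts cyclePt i)) &&
    probes.all fun p => probe r p == probe cyclePt p

/-- Every point with the invariants is listed. -/
noncomputable def candOK (r : ℕ) : Bool :=
  Nat.beq r (f3 0) || Nat.beq r (f3 1) || Nat.beq r (f3 2) || !(cycOK r) || candList.contains r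

/-- The start of the closure. -/
noncomputable def closStart : ℕ := (List.range 16).foldl (fun s i => addBit s (pts cyclePt i)) 0

/-- Grow the closure. -/
noncomputable def clos : List ℕ → ℕ → Option ℕ
  | [], s => some s
  | e :: l, s => force (e / 32) fun v => force (closGens.getD (e % 32) 0) fun a =>
    bif bit s v && bit s a && Nat.blt v 31671 && Nat.blt a 31671 then
      force (addBit s (Tab.app T (dW a) v)) fun s' => clos l s'
    else none

end Cfsg.Agent.Suzuki.Fi23Out
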